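import Cfsg.Agent.H200.STwo.Cls

/-!
# Exponent comparison for `F₄(2^k)`, `²F₄(q)`, `G₂(3^k)` (helper200)

`cS` is the order of a group of Lie type in characteristic `p`, its primes divide the order `cL` of `L`.

* `Al` : `e ≤ N k`, the exponents more than half of the top one;
* `al_f4`, `al_tf4`, `al_g2` : the exponents of `S` allowed by `L`;
* `top_eq` : `f * top g = N k`.
-/

set_option autoImplicit false

namespace Cfsg.Agent.H200.PG

open Cfsg Cfsg.Agent.OrdDiv Cfsg.Agent.H436 Cfsg.Agent.H425.PartP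
open Cfsg.Agent.H425.Chr hiding Dat
open Cfsg.Agent.H200.STwo

variable {p k cL cS : ℕ}

theorem In.of_dvd {e : ℕ} (hπ : ∀ w : ℕ, w.Prime → w ∣ cS → w ∣ cL) (h : In p cS e) : In p cL e := by
  obtain ⟨w, hw, hwc⟩ := h
  exact ⟨w, hw, hπ w hw.prime hwc⟩

/-- the quotient by the gcd -/
theorem split {e : ℕ} (hk : 1 ≤ k) : e = Nat.gcd e k * (e / Nat.gcd e k) ∧ 1 ≤ Nat.gcd e k ∧
    (Nat.gcd e k = k ∨ 2 * Nat.gcd e k ≤ k) := by
  have hg : 0 < Nat.gcd e k := Nat.gcd_pos_of_pos_right _ hk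
  refine ⟨(Nat.mul_div_cancel' (Nat.gcd_dvd_left _ _)).symm, hg, ?_⟩
  obtain ⟨j, hj⟩ := Nat.gcd_dvd_right e k
  rcases Nat.lt_or_ge j 2 with h | h
  · left
    have h1 : j ≠ 0 := by
      rintro rfl
      omega
    have h2 : j = 1 := by omega
    rw [h2, mul_one] at hj
    exact hj.symm
  · right
    calc 2 * Nat.gcd e k = Nat.gcd e k * 2 := mul_comm _ _
      _ ≤ Nat.gcd e k * j := Nat.mul_le_mul_left _ h
      _ = k := hj.symm

theorem al_f4 (hk : 1 ≤ k) (D : Dat 2 k cL (.f4 (2 ^ k))) (hπ : ∀ w : ℕ, w.Prime → w ∣ cS → w ∣ cL) {e : ℕ}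
    (h : In 2 cS e) : e ≤ 12 * k ∧ (6 * k < e → e = 8 * k ∨ e = 12 * k) := by
  have h0 := In.of_dvd hπ h
  obtain ⟨h1, h2, h3⟩ := split (e := e) hk
  have h4 : 3 ≤ e / Nat.gcd e k → K (.f4 (2 ^ k)) (e / Nat.gcd e k) := fun h5 => D.in_cls h5 h0
  generalize e / Nat.gcd e k = d at h1 h4
  generalize Nat.gcd e k = g at h1 h2 h3
  rcases Nat.lt_or_ge d 3 with h5 | h5
  · have : g * d ≤ g * 2 := Nat.mul_le_mul_left _ (by omega)
    omega
  · have h6 := K_f4 (h4 h5)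
    have h7 : d = 3 ∨ d = 4 ∨ d = 6 ∨ d = 8 ∨ d = 12 := by omega
    rcases h7 with rfl | rfl | rfl | rfl | rfl <;> omega

theorem al_tf4 (hk : 1 ≤ k) (D : Dat 2 k cL (.tf4 (2 ^ k))) (hπ : ∀ w : ℕ, w.Prime → w ∣ cS → w ∣ cL) {e : ℕ}
    (h : In 2 cS e) : e ≤ 12 * k ∧ (6 * k < e → e = 12 * k) := by
  have h0 := In.of_dvd hπ h
  obtain ⟨h1, h2, h3⟩ := split (e := e) hk
  have h4 : 3 ≤ e / Nat.gcd e k → K (.tf4 (2 ^ k)) (e / Nat.gcd e k) := fun h5 => D.in_cls h5 h0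
  generalize e / Nat.gcd e k = d at h1 h4
  generalize Nat.gcd e k = g at h1 h2 h3
  rcases Nat.lt_or_ge d 3 with h5 | h5
  · have : g * d ≤ g * 2 := Nat.mul_le_mul_left _ (by omega)
    omega
  · have h6 := K_tf4 (h4 h5)
    have h7 : d = 4 ∨ d = 6 ∨ d = 12 := by omega
    rcases h7 with rfl | rfl | rfl <;> omega

/-- no exponent `3 k` -/
theorem no_three_tf4 (hk : 1 ≤ k) (D : Dat 2 k cL (.tf4 (2 ^ k))) (hπ : ∀ w : ℕ, w.Prime → w ∣ cS → w ∣ cL) :
    ¬ In 2 cS (3 * k) := by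
  intro h
  have h1 : 3 * k / Nat.gcd (3 * k) k = 3 := by
    rw [Nat.gcd_eq_right (Dvd.intro_left _ rfl)]
    exact Nat.mul_div_cancel _ hk
  have h2 := D.in_cls (e := 3 * k) (by rw [h1]) (In.of_dvd hπ h)
  rw [h1] at h2
  have := K_tf4 h2
  omega

theorem al_g2 (hk : 1 ≤ k) (D : Dat 3 k cL (.g2 (3 ^ k))) (hπ : ∀ w : ℕ, w.Prime → w ∣ cS → w ∣ cL) {e : ℕ}
    (h : In 3 cS e) : e ≤ 6 * k ∧ (3 * k < e → e = 6 * k) := by
  have h0 := In.of_dvd hπ h
  obtain ⟨h1, h2, h3⟩ := split (e := e) hk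
  have h4 : 3 ≤ e / Nat.gcd e k → K (.g2 (3 ^ k)) (e / Nat.gcd e k) := fun h5 => D.in_cls h5 h0
  generalize e / Nat.gcd e k = d at h1 h4
  generalize Nat.gcd e k = g at h1 h2 h3
  rcases Nat.lt_or_ge d 3 with h5 | h5
  · have : g * d ≤ g * 2 := Nat.mul_le_mul_left _ (by omega)
    omega
  · have h6 := K_g2 (h4 h5)
    have h7 : d = 3 ∨ d = 6 := by omega
    rcases h7 with rfl | rfl <;> omega

variable {f : ℕ} {g : Grp}

/-- the top exponent -/
theorem top_eq (H : Dat p f cS g) {N : ℕ} (hN6 : 6 ≤ N) (hN : ∀ e, In p cS e → e ≤ N) (h : In p cS N) :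
    f * top g = N := by
  have h2 := two_le_top H.cond H.q_ne
  have h1 : N ≤ f * top g := H.le_top (fun d h3 h4 => K_le_top H.cond H.q_ne h3 h4) h h2
  rcases Nat.lt_or_ge 6 (f * top g) with h3 | h3
  · exact le_antisymm (hN _ (H.in_top (by omega) (by omega))) h1
  · omega

/-- the second class of the orthogonal groups of minus type -/
theorem second_ominus {m q : ℕ} (H : Dat p f cS (.ominus m q)) {N : ℕ} (hN : 8 < N)
    (ht : f * top (.ominus m q) = N) : ∃ e, In p cS e ∧ e < N ∧ 3 * N ≤ 4 * e := by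
  have hm : 4 ≤ m := H.cond.1
  have hf := H.hf
  have e0 : f * (2 * m) = N := ht
  have e1 : f * (2 * (m - 1)) + 2 * f = f * (2 * m) := by
    obtain ⟨j, rfl⟩ : ∃ j, m = j + 1 := ⟨m - 1, by omega⟩
    rw [Nat.add_sub_cancel]
    ring
  have e2 : 8 * f ≤ f * (2 * m) := by
    rw [mul_comm 8 f]
    exact Nat.mul_le_mul_left _ (by omega)
  have e3 : K (.ominus m q) (2 * (m - 1)) := (K_ominus (m := m) (by omega) (by omega)).2 (by omega)
  have e4 : 3 ≤ 2 * (m - 1) := by omega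
  have e5 : In p cS (f * (2 * (m - 1))) := by
    refine H.in_mul e4 ?_ e3
    intro h6
    rw [h6] at e1
    omega
  refine ⟨_, e5, ?_, ?_⟩
  · generalize f * (2 * (m - 1)) = x at *
    generalize f * (2 * m) = y at *
    omega
  · generalize f * (2 * (m - 1)) = x at *
    generalize f * (2 * m) = y at *
    omega

/-- the primes dividing `q - 1` divide the order of `PSL₂(q)` -/
theorem dvd_psl_two {q w c : ℕ} (h : den (.psl 2 q) * c = num (.psl 2 q)) (hq : 2 ≤ q) (hw : w.Prime) (h2 : w ≠ 2)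
    (hd : w ∣ q - 1) : w ∣ c := by
  have h1 : Nat.gcd 2 (q - 1) * (q - 1) * c = glN 2 q := h
  have h3 : glN 2 q = (q - 1) * ((q - 1) * (q * (q + 1))) := by
    have : glN 2 q = (q ^ 2 - q ^ 0) * (q ^ 2 - q ^ 1) := by
      simp [glN, List.range_succ]
    rw [this, pow_zero, pow_one]
    obtain ⟨j, rfl⟩ : ∃ j, q = j + 1 := ⟨q - 1, by omega⟩
    rw [Nat.add_sub_cancel]
    have e1 : (j + 1) ^ 2 - 1 = j * (j + 1 + 1) := by
      have : (j + 1) ^ 2 = j * (j + 1 + 1) + 1 := by ring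
      omega
    have e2 : (j + 1) ^ 2 - (j + 1) = j * (j + 1) := by
      have : (j + 1) ^ 2 = j * (j + 1) + (j + 1) := by ring
      omega
    rw [e1, e2]
    ring
  rw [h3] at h1
  have h4 : Nat.gcd 2 (q - 1) * c = (q - 1) * (q * (q + 1)) := by
    apply Nat.eq_of_mul_eq_mul_left (show 0 < q - 1 by omega)
    rw [← h1]
    ring
  have h5 : w ∣ Nat.gcd 2 (q - 1) * c := by
    rw [h4]
    exact hd.mul_right _
  rcases hw.dvd_mul.1 h5 with h6 | h6
  · exact absurd ((Nat.prime_dvd_prime_iff_eq hw Nat.prime_two).1 (h6.trans (Nat.gcd_dvd_left _ _))) h2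
  · exact h6

/-- the exponent `j` of `PSL₂(p^f)`, `j ∣ f` -/
theorem in_psl_two {q : ℕ} (hq : q = p ^ f) (H : Dat p f cS (.psl 2 q)) {j : ℕ} (hj : 3 ≤ j) (h6 : j ≠ 6) (hd : j ∣ f) :
    In p cS j := by
  obtain ⟨w, hw⟩ := exists_prim_two H.hp hj h6
  refine ⟨w, hw, dvd_psl_two H.eq (by rw [hq]; exact H.two_le) hw.prime ?_ ?_⟩
  · have := hw.odd (by omega)
    omega
  · rw [hq]
    exact hw.dvd hd

/-- the exponents of the Suzuki groups -/
theorem in_sz {q : ℕ} (hq : q = p ^ f) (H : Dat p f cS (.sz q)) {j : ℕ} (hj : 3 ≤ j) (h6 : j ≠ 6) (hd : j ∣ f) :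
    In p cS j := by
  obtain ⟨w, hw⟩ := exists_prim_two H.hp hj h6
  refine ⟨w, hw, ?_⟩
  have h1 : 1 * cS = num (.sz q) := H.eq
  rw [one_mul] at h1
  rw [h1]
  have h2 : w ∣ q - 1 := by
    rw [hq]
    exact hw.dvd hd
  change w ∣ q ^ 2 * _
  refine Dvd.dvd.mul_left ?_ _
  first | exact Dvd.dvd.mul_left h2 _ | exact Dvd.dvd.mul_right h2 _

end Cfsg.Agent.H200.PG
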