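import Cfsg.Agent.H200.PG.Same
import Cfsg.Agent.H200.PG.FamIso

/-!
# The identification for S3635, `S` of Lie type in the characteristic of `L` (helper200)

* `iso_f4`, `iso_tf4`, `iso_g2` : `S ≃* L`.
-/

set_option autoImplicit false

namespace Cfsg.Agent.H200.PG

open Cfsg
open Cfsg.Agent.H415.PG3 (Ip)

universe u v

variable {k : ℕ} {L : Type v} [Group L] [Finite L] {S : Type u} [Group S] [Finite S]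

/-- **`L = F₄(2^k)`** -/
theorem iso_f4 (hk : 1 ≤ k) (hL : H426.LieFam.Fam.Is 2 k L .f4) (hl : IsLieTypeChar 2 S)
    (hπ : ∀ r : ℕ, r.Prime → r ∣ Nat.card S → r ∣ Nat.card L) (h1 : Ip S ((2 ^ k) ^ 4 + 1))
    (h2 : Ip S ((2 ^ k) ^ 4 - (2 ^ k) ^ 2 + 1)) (hc : Nat.Coprime ((2 ^ k) ^ 4 + 1) ((2 ^ k) ^ 4 - (2 ^ k) ^ 2 + 1)) :
    Nonempty (S ≃* L) :=
  iso_fam (same_f4 hk hL hl hπ h1 h2 hc) hL

/-- **`L = ²F₄(2^k)`** -/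
theorem iso_tf4 (hk : 3 ≤ k) (hL : H426.LieFam.Fam.Is 2 k L .tf4) (hl : IsLieTypeChar 2 S)
    (hπ : ∀ r : ℕ, r.Prime → r ∣ Nat.card S → r ∣ Nat.card L) {n₁ n₂ : ℕ} (h1 : Ip S n₁) (h2 : Ip S n₂)
    (hn : n₁ * n₂ = (2 ^ k) ^ 4 - (2 ^ k) ^ 2 + 1) (hc : Nat.Coprime n₁ n₂) : Nonempty (S ≃* L) :=
  iso_fam (same_tf4 hk hL hl hπ h1 h2 hn hc) hL

/-- **`L = G₂(3^k)`** -/
theorem iso_g2 (hk : 2 ≤ k) (hL : H426.LieFam.Fam.Is 3 k L .g2) (hl : IsLieTypeChar 3 S) (he : 2 ∣ Nat.card S)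
    (hπ : ∀ r : ℕ, r.Prime → r ∣ Nat.card S → r ∣ Nat.card L) (h1 : Ip S ((3 ^ k) ^ 2 + 3 ^ k + 1))
    (h2 : Ip S ((3 ^ k) ^ 2 - 3 ^ k + 1)) (hc : Nat.Coprime ((3 ^ k) ^ 2 + 3 ^ k + 1) ((3 ^ k) ^ 2 - 3 ^ k + 1)) :
    Nonempty (S ≃* L) :=
  iso_fam (same_g2 hk hL hl he hπ h1 h2 hc) hL

end Cfsg.Agent.H200.PG
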