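import Cfsg.Agent.H493.PGRows2
import Cfsg.Agent.H493.PGRows3
import Cfsg.Agent.H426.LieFam

/-!
# The families of groups of Lie type with at least three components of the prime graph (helper200)

* `Isol S n` : `n` odd, the primes of `n` divide `|S|` and are not adjacent to the primes not dividing `n`;
* `Tri S` : two odd primes of `|S|`, in different components, which are not the component of 2;
* `Tri.fam` : `S` of family `fam` over the field with `p ^ f` elements with `Tri S` : `fam` is `PSL₂`, `PSL₃(2)`, `PSL₃(4)`,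
  `PSU₄(3)`, `PSU₆(2)`, `PΩ⁻`, `G₂`, `F₄`, `E₇`, `E₈`, `²E₆`, `Sz`, `²G₂`, `²F₄`.
-/

set_option autoImplicit false

namespace Cfsg.Agent.H200.PG

open Cfsg Cfsg.Agent.H493.PG

universe u v

/-- `n` is odd, the primes of `n` are not adjacent to the primes not dividing `n` -/
structure Isol (S : Type u) [Group S] (n : ℕ) : Prop where
  odd : Odd n
  dvd : ∀ r : ℕ, r.Prime → r ∣ n → r ∣ Nat.card S
  nadj : ∀ r s : ℕ, r.Prime → s.Prime → r ∣ n → ¬ s ∣ n → ¬ ∃ x : S, orderOf x = r * s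

variable {S : Type u} [Group S] {n m : ℕ}

theorem Isol.conn (h : Isol S n) {a b : ℕ} (ha : a ∣ n) (hc : Conn S a b) : b ∣ n := by
  induction hc with
  | refl => exact ha
  | tail _ h1 ih =>
    obtain ⟨h2, h3, -, g, hg⟩ := h1
    by_contra hb
    exact h.nadj _ _ h2 h3 ih hb ⟨g, hg⟩

theorem Isol.ne_two (h : Isol S n) {a : ℕ} (ha : a ∣ n) : a ≠ 2 := by
  rintro rfl
  have := h.odd
  rw [← Nat.not_even_iff_odd, even_iff_two_dvd] at this
  exact this ha

theorem Isol.not_two (h : Isol S n) {a : ℕ} (ha : a ∣ n) : ¬ Conn S 2 a := fun hc =>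
  h.ne_two (h.conn ha hc.symm) rfl

/-- three components -/
def Tri (S : Type u) [Group S] : Prop :=
  ∃ a b : ℕ, a.Prime ∧ b.Prime ∧ a ≠ 2 ∧ b ≠ 2 ∧ a ∣ Nat.card S ∧ b ∣ Nat.card S ∧ a ≠ b ∧
    ¬ Conn S 2 a ∧ ¬ Conn S 2 b ∧ ¬ Conn S a b

theorem Isol.tri (h : Isol S n) (h' : Isol S m) (hn : n ≠ 1) (hm : m ≠ 1) (hc : Nat.Coprime n m) : Tri S := by
  obtain ⟨a, ha, han⟩ := Nat.exists_prime_and_dvd hn
  obtain ⟨b, hb, hbm⟩ := Nat.exists_prime_and_dvd hm
  have hab : ∀ c : ℕ, c.Prime → c ∣ n → ¬ c ∣ m := by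
    intro c hc1 h1 h2
    have := Nat.dvd_gcd h1 h2
    rw [hc] at this
    exact hc1.one_lt.ne' (Nat.dvd_one.1 this)
  refine ⟨a, b, ha, hb, h.ne_two han, h'.ne_two hbm, h.dvd a ha han, h'.dvd b hb hbm, ?_, h.not_two han, h'.not_two hbm, ?_⟩
  · rintro rfl
    exact hab a ha han hbm
  · intro hcab
    exact hab b hb (h.conn han hcab) hbm

theorem Tri.not_few (T : Tri S) (h2 : 2 ∣ Nat.card S) : ¬ Few 3 S := by
  obtain ⟨a, b, ha, hb, ha2, hb2, haS, hbS, hab, h1, h3, h4⟩ := T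
  intro hF
  obtain ⟨i, j, hij, hc⟩ := hF ![2, a, b] (by
    intro i j h
    fin_cases i <;> fin_cases j
    · rfl
    · exact absurd (show (2 : ℕ) = a from h).symm ha2
    · exact absurd (show (2 : ℕ) = b from h).symm hb2
    · exact absurd (show a = 2 from h) ha2
    · rfl
    · exact absurd (show a = b from h) hab
    · exact absurd (show b = 2 from h) hb2
    · exact absurd (show b = a from h).symm hab
    · rfl) (by
    intro i
    fin_cases i
    · exact ⟨Nat.prime_two, h2⟩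
    · exact ⟨ha, haS⟩
    · exact ⟨hb, hbS⟩)
  fin_cases i <;> fin_cases j
  · exact hij rfl
  · exact h1 hc
  · exact h3 hc
  · exact h1 hc.symm
  · exact hij rfl
  · exact h4 hc
  · exact h3 hc.symm
  · exact h4 hc.symm
  · exact hij rfl

theorem Tri.congr {S' : Type v} [Group S'] (e : S ≃* S') (T : Tri S) : Tri S' := by
  obtain ⟨a, b, ha, hb, ha2, hb2, haS, hbS, hab, h1, h3, h4⟩ := T
  have key : ∀ x y : ℕ, Conn S' x y → Conn S x y := by
    intro x y h
    induction h with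
    | refl => exact Conn.refl _
    | tail _ h ih =>
      obtain ⟨h5, h6, h7, g, hg⟩ := h
      exact Relation.ReflTransGen.tail ih ⟨h5, h6, h7, e.symm g, by rw [MulEquiv.orderOf_eq, hg]⟩
  rw [Nat.card_congr e.toEquiv] at haS hbS
  exact ⟨a, b, ha, hb, ha2, hb2, haS, hbS, hab, fun h => h1 (key _ _ h), fun h => h3 (key _ _ h), fun h => h4 (key _ _ h)⟩

open Cfsg.Agent.H493.PGRows

theorem Tri.fam [Finite S] (T : Tri S) (h2 : 2 ∣ Nat.card S) {p f : ℕ} (hp : p.Prime) (hf : 1 ≤ f)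
    {fam : H426.LieFam.Fam} (h : fam.Is p f S) :
    fam = .psl 2 ∨ (fam = .psl 3 ∧ (p ^ f = 2 ∨ p ^ f = 4)) ∨ (fam = .psu 4 ∧ p ^ f = 3) ∨ (fam = .psu 6 ∧ p ^ f = 2) ∨
      (∃ m, fam = .ominus m) ∨ fam = .g2 ∨ fam = .f4 ∨ fam = .e7 ∨ fam = .e8 ∨ fam = .te6 ∨ fam = .sz ∨ fam = .ree ∨
      fam = .tf4 := by
  cases fam with
  | psl n =>
    obtain ⟨hn, h4, F, _, _, _, hF, ⟨e⟩⟩ := h
    rcases Nat.lt_or_ge n 3 with h3 | h3
    · obtain rfl : n = 2 := by omega
      exact Or.inl rfl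
    · obtain ⟨a, b, ha, hb, ha2, hb2, haS, hbS, -, h5, h6, h7⟩ := T.congr e
      rcases H371.Psl.three h3 ha hb ha2 hb2 haS hbS with h | h | h | ⟨rfl, h⟩
      · exact absurd (conn_of h) h5
      · exact absurd (conn_of h) h6
      · exact absurd (conn_of h) h7
      · rw [Nat.card_eq_fintype_card, hF] at h
        exact Or.inr (Or.inl ⟨rfl, h⟩)
  | psp m =>
    obtain ⟨hm, h3, F, _, _, _, hF, e⟩ := h
    exact absurd (few_psp ⟨F, _, _, m, hm, fun h => by rw [hF]; exact h3 h, e⟩) (T.not_few h2)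
  | oodd m =>
    obtain ⟨hm, h3, F, _, _, _, hF, e⟩ := h
    exact absurd (few_omegaOdd ⟨F, _, _, m, hm, by rwa [hF], e⟩) (T.not_few h2)
  | oplus m =>
    obtain ⟨hm, F, _, _, _, hF, e⟩ := h
    exact absurd (few_omegaPlus ⟨F, _, ‹_›, m, hm, e⟩) (T.not_few h2)
  | psu n =>
    obtain ⟨hn, h4, F, _, _, _, hF, ⟨e⟩⟩ := h
    have : Finite (PSU n F (p ^ f)) := Finite.of_equiv S e.toEquiv
    obtain ⟨a, b, ha, hb, ha2, hb2, haS, hbS, hab, h5, h6, h7⟩ := T.congr e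
    rcases H948.UMain.psu_two hF hn h4 ha hb ha2 hb2 hab haS hbS with h | h | h | ⟨rfl, h⟩ | ⟨rfl, h⟩
    · exact absurd (conn_of h.conn).symm h5
    · exact absurd (conn_of h.conn).symm h6
    · exact absurd (conn_of h.conn) h7
    · exact Or.inr (Or.inr (Or.inl ⟨rfl, h⟩))
    · exact Or.inr (Or.inr (Or.inr (Or.inl ⟨rfl, h⟩)))
  | td4 =>
    obtain ⟨K, _, _, _, hK, ⟨e⟩⟩ := h
    exact absurd (Few.congr e.symm (H493.PGD4T.few_tw (hp.isPrimePow.pow (by omega)) hK)) (T.not_few h2)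
  | e6 =>
    obtain ⟨F, _, _, _, hF, e⟩ := h
    exact absurd (few_isoE6 ⟨F, _, ‹_›, e⟩) (T.not_few h2)
  | ominus m => simp
  | g2 => simp
  | f4 => simp
  | e7 => simp
  | e8 => simp
  | te6 => simp
  | sz => simp
  | ree => simp
  | tf4 => simp

end Cfsg.Agent.H200.PG
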