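import Cfsg.Agent.H200.PG.Arith
import Cfsg.Agent.H200.PG.Tri
import Cfsg.Agent.H200.STwo.FamDat
import Cfsg.Agent.H426.LieEx
import Cfsg.Agent.H415.PG.Def

/-!
# The same characteristic: `F₄(2^k)`, `²F₄(q)`, `G₂(3^k)` (helper200)

`S` of Lie type in the characteristic of `L`, `π(S) ⊆ π(L)`, two isolated coprime odd numbers: `S` and `L` have the same
family and the same field.

* `same_f4`, `same_tf4`, `same_g2`.
-/

set_option autoImplicit false

namespace Cfsg.Agent.H200.PG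

open Cfsg Cfsg.Agent.OrdDiv Cfsg.Agent.H436 Cfsg.Agent.H425.PartP
open Cfsg.Agent.H425.Chr hiding Dat
open Cfsg.Agent.H200.STwo
open Cfsg.Agent.H493.PG Cfsg.Agent.H493.PGRows Cfsg.Agent.H493.PGCyc Cfsg.Agent.H493.PGTorus
open Cfsg.Agent.H415.PG3 (Ip)

universe u v

theorem isol_of_ip {S : Type u} [Group S] {n : ℕ} (h : Ip S n) : Isol S n :=
  ⟨Nat.odd_iff.2 (by have := h.not_two_dvd; omega), h.dvd, h.iso⟩

theorem tri_of_ip {S : Type u} [Group S] {n m : ℕ} (h : Ip S n) (h' : Ip S m) (hc : Nat.Coprime n m) : Tri S :=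
  (isol_of_ip h).tri (isol_of_ip h') h.one_lt.ne' h'.one_lt.ne' hc

theorem in_of_ip {S : Type u} [Group S] {p n e : ℕ} (hp : p.Prime) (h : Ip S n) (he : 3 ≤ e) (h6 : e ≠ 6)
    (hd : ∀ w, Prim p e w → w ∣ n) : In p (Nat.card S) e := by
  obtain ⟨w, hw⟩ := exists_prim_two hp he h6
  exact ⟨w, hw, h.dvd w hw.prime (hd w hw)⟩

theorem in_of_ip_mul {S : Type u} [Group S] {p n m e : ℕ} (hp : p.Prime) (h : Ip S n) (h' : Ip S m) (he : 3 ≤ e)
    (h6 : e ≠ 6) (hd : ∀ w, Prim p e w → w ∣ n * m) : In p (Nat.card S) e := by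
  obtain ⟨w, hw⟩ := exists_prim_two hp he h6
  refine ⟨w, hw, ?_⟩
  rcases hw.prime.dvd_mul.1 (hd w hw) with h1 | h1
  · exact h.dvd w hw.prime h1
  · exact h'.dvd w hw.prime h1

theorem cube_add {x : ℕ} (hx : 1 ≤ x) : x ^ 3 + 1 = (x + 1) * (x ^ 2 - x + 1) := by
  obtain ⟨j, rfl⟩ : ∃ j, x = j + 1 := ⟨x - 1, by omega⟩
  have : (j + 1) ^ 2 - (j + 1) = (j + 1) * j := by
    have : (j + 1) ^ 2 = (j + 1) * j + (j + 1) := by ring
    omega
  rw [this]
  ring

theorem cube_sub {x : ℕ} (hx : 1 ≤ x) : x ^ 3 - 1 = (x - 1) * (x ^ 2 + x + 1) := by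
  obtain ⟨j, rfl⟩ : ∃ j, x = j + 1 := ⟨x - 1, by omega⟩
  rw [Nat.add_sub_cancel]
  have : (j + 1) ^ 3 = j * ((j + 1) ^ 2 + (j + 1) + 1) + 1 := by ring
  omega

section prims

variable {p k w : ℕ}

theorem prim_eight (hk : 1 ≤ k) (hw : Prim p (8 * k) w) : w ∣ (p ^ k) ^ 4 + 1 := by
  have h := (add_iff hw (by omega) (4 * k)).2 ⟨⟨1, by ring⟩, fun h => by have := Nat.le_of_dvd (by omega) h; omega⟩
  rwa [mul_comm, pow_mul] at h

theorem prim_twelve (hp : p.Prime) (hk : 1 ≤ k) (hw : Prim p (12 * k) w) : w ∣ (p ^ k) ^ 4 - (p ^ k) ^ 2 + 1 := by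
  have h := (add_iff hw (by omega) (6 * k)).2 ⟨⟨1, by ring⟩, fun h => by have := Nat.le_of_dvd (by omega) h; omega⟩
  have h1 : ¬ w ∣ p ^ (2 * k) + 1 := fun h1 => by
    have h2 := ((add_iff hw (by omega) (2 * k)).1 h1).1
    have := Nat.le_of_dvd (by omega) h2
    omega
  have h2 : p ^ (6 * k) = (p ^ (2 * k)) ^ 3 := by
    rw [← pow_mul]
    congr 1
    ring
  rw [h2, cube_add (Nat.one_le_pow _ _ hp.pos)] at h
  have h3 : p ^ (2 * k) = (p ^ k) ^ 2 := by
    rw [← pow_mul, mul_comm]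
  have h4 : (p ^ (2 * k)) ^ 2 = (p ^ k) ^ 4 := by
    rw [h3, ← pow_mul]
  rw [h4] at h
  have h5 := (hw.prime.dvd_mul.1 h).resolve_left h1
  rwa [h3] at h5

theorem prim_six (hp : p.Prime) (hk : 1 ≤ k) (hw : Prim p (6 * k) w) : w ∣ (p ^ k) ^ 2 - p ^ k + 1 := by
  have h := (add_iff hw (by omega) (3 * k)).2 ⟨⟨1, by ring⟩, fun h => by have := Nat.le_of_dvd (by omega) h; omega⟩
  have h1 : ¬ w ∣ p ^ k + 1 := fun h1 => by
    have h2 := ((add_iff hw (by omega) k).1 h1).1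
    have := Nat.le_of_dvd (by omega) h2
    omega
  have h2 : p ^ (3 * k) = (p ^ k) ^ 3 := by
    rw [← pow_mul, mul_comm]
  rw [h2, cube_add (Nat.one_le_pow _ _ hp.pos)] at h
  exact (hw.prime.dvd_mul.1 h).resolve_left h1

theorem prim_three (hp : p.Prime) (hk : 1 ≤ k) (hw : Prim p (3 * k) w) : w ∣ (p ^ k) ^ 2 + p ^ k + 1 := by
  have h : w ∣ p ^ (3 * k) - 1 := hw.dvd dvd_rfl
  have h1 : ¬ w ∣ p ^ k - 1 := fun h1 => by
    have := Nat.le_of_dvd (by omega) ((hw.dvd_iff k).1 h1)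
    omega
  have h2 : p ^ (3 * k) = (p ^ k) ^ 3 := by
    rw [← pow_mul, mul_comm]
  rw [h2, cube_sub (Nat.one_le_pow _ _ hp.pos)] at h
  exact (hw.prime.dvd_mul.1 h).resolve_left h1

end prims

section cls

variable {p f c : ℕ} {g : Grp}

/-- the quotient of `a k` by the gcd with `b k` -/
theorem quot_eq {k : ℕ} (hk : 1 ≤ k) (a b : ℕ) : a * k / Nat.gcd (a * k) (b * k) = a / Nat.gcd a b := by
  rw [Nat.gcd_mul_right, Nat.mul_div_mul_right _ _ hk]

theorem cls_of {k : ℕ} (hk : 1 ≤ k) {a b d : ℕ} (H : Dat p f c g) (hf : f = b * k) (hd : a / Nat.gcd a b = d)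
    (h3 : 3 ≤ d) (h : In p c (a * k)) : K g d := by
  have h1 : a * k / Nat.gcd (a * k) f = d := by rw [hf, quot_eq hk, hd]
  have := H.in_cls (e := a * k) (by rwa [h1]) h
  rwa [h1] at this

end cls

theorem not_both {n m : ℕ} (hc : Nat.Coprime n m) {a : ℕ} (ha : a.Prime) (h1 : a ∣ n) (h2 : a ∣ m) : False := by
  have := Nat.dvd_gcd h1 h2
  rw [hc] at this
  exact ha.one_lt.ne' (Nat.dvd_one.1 this)

/-- `3 ^ k + 1` is not a power of two -/
theorem exists_odd_prime {k : ℕ} (hk : 2 ≤ k) : ∃ u : ℕ, u.Prime ∧ u ≠ 2 ∧ u ∣ 3 ^ k + 1 := by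
  obtain ⟨a, b, hb, hab⟩ := Nat.exists_eq_two_pow_mul_odd (n := 3 ^ k + 1) (Nat.succ_ne_zero _)
  have h9 : 3 ^ 2 ≤ 3 ^ k := Nat.pow_le_pow_right (by norm_num) hk
  have hb1 : b ≠ 1 := by
    rintro rfl
    rw [mul_one] at hab
    have h8 : (3 ^ k + 1) % 8 = 2 ∨ (3 ^ k + 1) % 8 = 4 := by
      rcases Nat.even_or_odd' k with ⟨j, rfl | rfl⟩
      · left
        rw [pow_mul, Nat.add_mod, Nat.pow_mod]
        norm_num
      · right
        rw [pow_succ, pow_mul, Nat.add_mod, Nat.mul_mod, Nat.pow_mod]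
        norm_num
    have ha : a < 3 := by
      by_contra hc
      obtain ⟨j, rfl⟩ : ∃ j, a = 3 + j := ⟨a - 3, by omega⟩
      rw [pow_add] at hab
      omega
    have : 2 ^ a ≤ 2 ^ 2 := Nat.pow_le_pow_right (by norm_num) (by omega)
    omega
  obtain ⟨u, hu, hub⟩ := Nat.exists_prime_and_dvd hb1
  refine ⟨u, hu, ?_, ?_⟩
  · rintro rfl
    exact (Nat.not_even_iff_odd.2 hb) (even_iff_two_dvd.2 hub)
  · rw [hab]
    exact hub.mul_left _

theorem not_both_three {k u : ℕ} (hu : u.Prime) (h1 : u ∣ 3 ^ k + 1) (h2 : u ∣ (3 ^ k) ^ 2 - 3 ^ k + 1) : False := by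
  have h3 : (3 ^ k) ^ 2 - 3 ^ k + 1 + 3 * 3 ^ k = (3 ^ k + 1) * (3 ^ k + 1) := by
    have h4 : 3 ^ k ≤ (3 ^ k) ^ 2 := Nat.le_self_pow (by norm_num) _
    zify [h4]
    ring
  have h5 : u ∣ 3 * 3 ^ k := by
    have h6 : u ∣ (3 ^ k) ^ 2 - 3 ^ k + 1 + 3 * 3 ^ k := h3 ▸ h1.mul_right _
    exact (Nat.dvd_add_right h2).1 h6
  have h7 : u ∣ 3 ^ (k + 1) := by
    rwa [pow_succ, mul_comm]
  have h8 : u = 3 := (Nat.prime_dvd_prime_iff_eq hu Nat.prime_three).1 (hu.dvd_of_dvd_pow h7)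
  subst h8
  rcases Nat.eq_zero_or_pos k with rfl | hk
  · norm_num at h1
  · have h9 : 3 ∣ 3 ^ k := dvd_pow_self 3 (by omega)
    have := (Nat.dvd_add_right h9).1 h1
    omega

variable {k : ℕ} {L : Type v} [Group L] [Finite L] {S : Type u} [Group S] [Finite S]

theorem pow_cases {f : ℕ} (h : 2 ^ f = 2 ∨ 2 ^ f = 4) : f ≤ 2 := by
  by_contra hc
  have : 2 ^ 3 ≤ 2 ^ f := Nat.pow_le_pow_right (by norm_num) (by omega)
  omega

/-- **`F₄(2^k)`** -/
theorem same_f4 (hk : 1 ≤ k) (hL : H426.LieFam.Fam.Is 2 k L .f4) (hl : IsLieTypeChar 2 S)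
    (hπ : ∀ r : ℕ, r.Prime → r ∣ Nat.card S → r ∣ Nat.card L) (h1 : Ip S ((2 ^ k) ^ 4 + 1))
    (h2 : Ip S ((2 ^ k) ^ 4 - (2 ^ k) ^ 2 + 1)) (hc : Nat.Coprime ((2 ^ k) ^ 4 + 1) ((2 ^ k) ^ 4 - (2 ^ k) ^ 2 + 1)) :
    H426.LieFam.Fam.Is 2 k S .f4 := by
  obtain ⟨fam, f, d, N, hIs, hSh⟩ := H426.LieFam.exists_fam Nat.prime_two hl
  have H := dat_of_is Nat.prime_two hSh.f_pos hIs
  have DL := dat_of_is Nat.prime_two hk hL
  have hf := hSh.f_pos
  have hA := fun {e : ℕ} (h : In 2 (Nat.card S) e) => al_f4 hk DL hπ h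
  have i8 : In 2 (Nat.card S) (8 * k) := in_of_ip Nat.prime_two h1 (by omega) (by omega) fun w hw => prim_eight hk hw
  have i12 : In 2 (Nat.card S) (12 * k) := in_of_ip Nat.prime_two h2 (by omega) (by omega)
    fun w hw => prim_twelve Nat.prime_two hk hw
  have ht := top_eq H (N := 12 * k) (by omega) (fun e he => (hA he).1) i12
  rcases (tri_of_ip h1 h2 hc).fam hSh.chr Nat.prime_two hSh.f_pos hIs with h | ⟨h, h0⟩ | ⟨h, h0⟩ | ⟨h, h0⟩ | ⟨m, h⟩ |
    h | h | h | h | h | h | h | h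
  · subst h
    have ht' : f * 2 = 12 * k := ht
    have := cls_of (a := 8) (b := 6) (d := 4) hk H (by omega) (by norm_num) (by norm_num) i8
    change 4 ≤ 2 at this
    omega
  · subst h
    have ht' : f * 3 = 12 * k := ht
    have := pow_cases h0
    omega
  · have : 2 ∣ 2 ^ f := dvd_pow_self 2 (by omega)
    rw [h0] at this
    omega
  · subst h
    have ht' : f * 10 = 12 * k := ht
    have := pow_cases (Or.inl h0)
    omega
  · subst h
    obtain ⟨e, he, he1, he2⟩ := second_ominus H (N := 12 * k) (by omega) ht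
    have := hA he
    omega
  · subst h
    have ht' : f * 6 = 12 * k := ht
    have := K_g2 (cls_of (a := 8) (b := 2) (d := 4) hk H (by omega) (by norm_num) (by norm_num) i8)
    omega
  · subst h
    have ht' : f * 12 = 12 * k := ht
    have : f = k := by omega
    rwa [this] at hIs
  · subst h
    have ht' : f * 18 = 12 * k := ht
    have := hA (H.in_mul (d := 14) (by norm_num) (by omega) (show 14 ∣ 2 ∨ _ by norm_num))
    omega
  · subst h
    have ht' : f * 30 = 12 * k := ht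
    have := hA (H.in_mul (d := 24) (by norm_num) (by omega) (show 24 ∣ 2 ∨ _ by norm_num))
    omega
  · subst h
    have ht' : f * 18 = 12 * k := ht
    have := hA (H.in_mul (d := 10) (by norm_num) (by omega) (show 10 ∣ 2 ∨ _ by norm_num))
    omega
  · subst h
    have ht' : f * 4 = 12 * k := ht
    have := K_sz (cls_of (a := 8) (b := 3) (d := 8) hk H (by omega) (by norm_num) (by norm_num) i8)
    omega
  · subst h
    have ht' : f * 6 = 12 * k := ht
    have := K_ree (cls_of (a := 8) (b := 2) (d := 4) hk H (by omega) (by norm_num) (by norm_num) i8)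
    omega
  · subst h
    have ht' : f * 12 = 12 * k := ht
    have := K_tf4 (cls_of (a := 8) (b := 1) (d := 8) hk H (by omega) (by norm_num) (by norm_num) i8)
    omega

/-- **`²F₄(2^k)`** -/
theorem same_tf4 (hk : 3 ≤ k) (hL : H426.LieFam.Fam.Is 2 k L .tf4) (hl : IsLieTypeChar 2 S)
    (hπ : ∀ r : ℕ, r.Prime → r ∣ Nat.card S → r ∣ Nat.card L) {n₁ n₂ : ℕ} (h1 : Ip S n₁) (h2 : Ip S n₂)
    (hn : n₁ * n₂ = (2 ^ k) ^ 4 - (2 ^ k) ^ 2 + 1) (hc : Nat.Coprime n₁ n₂) :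
    H426.LieFam.Fam.Is 2 k S .tf4 := by
  obtain ⟨fam, f, d, N, hIs, hSh⟩ := H426.LieFam.exists_fam Nat.prime_two hl
  have hk1 : 1 ≤ k := by omega
  have H := dat_of_is Nat.prime_two hSh.f_pos hIs
  have DL := dat_of_is Nat.prime_two hk1 hL
  have hf := hSh.f_pos
  have hA := fun {e : ℕ} (h : In 2 (Nat.card S) e) => al_tf4 hk1 DL hπ h
  have hB := no_three_tf4 hk1 DL hπ
  have i12 : In 2 (Nat.card S) (12 * k) := in_of_ip_mul Nat.prime_two h1 h2 (by omega) (by omega)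
    fun w hw => hn ▸ prim_twelve Nat.prime_two hk1 hw
  have ht := top_eq H (N := 12 * k) (by omega) (fun e he => (hA he).1) i12
  rcases (tri_of_ip h1 h2 hc).fam hSh.chr Nat.prime_two hSh.f_pos hIs with h | ⟨h, h0⟩ | ⟨h, h0⟩ | ⟨h, h0⟩ | ⟨m, h⟩ |
    h | h | h | h | h | h | h | h
  · subst h
    have ht' : f * 2 = 12 * k := ht
    exact absurd (in_psl_two rfl H (j := 3 * k) (by omega) (by omega) ⟨2, by omega⟩) hB
  · subst h
    have ht' : f * 3 = 12 * k := ht
    have := pow_cases h0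
    omega
  · have : 2 ∣ 2 ^ f := dvd_pow_self 2 (by omega)
    rw [h0] at this
    omega
  · subst h
    have ht' : f * 10 = 12 * k := ht
    have := pow_cases (Or.inl h0)
    omega
  · subst h
    obtain ⟨e, he, he1, he2⟩ := second_ominus H (N := 12 * k) (by omega) ht
    have := hA he
    omega
  · subst h
    have ht' : f * 6 = 12 * k := ht
    exfalso
    obtain ⟨-, F, _, _, _, hF, ⟨e⟩⟩ := hIs
    obtain ⟨a, ha, han⟩ := Nat.exists_prime_and_dvd h1.one_lt.ne'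
    obtain ⟨b, hb, hbn⟩ := Nat.exists_prime_and_dvd h2.one_lt.ne'
    have hq : Nat.card F = (2 ^ k) ^ 2 := by
      rw [Nat.card_eq_fintype_card, hF, ← pow_mul]
      congr 1
      omega
    have hpv : pv c6 (Nat.card F) = ((n₁ * n₂ : ℕ) : ℤ) := by
      have hle : (2 ^ k) ^ 2 ≤ (2 ^ k) ^ 4 := Nat.pow_le_pow_right (Nat.two_pow_pos k) (by norm_num)
      rw [pv_c6, hn, hq]
      push_cast [Nat.cast_sub hle]
      ring
    have key := Cfsg.Agent.H493.PGG2.conn6 (F := F) ha hb (hpv ▸ Int.natCast_dvd_natCast.2 (han.mul_right _))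
      (hpv ▸ Int.natCast_dvd_natCast.2 (hbn.mul_left _))
    exact not_both hc hb ((isol_of_ip (h1.congr e)).conn han key) hbn
  · subst h
    have ht' : f * 12 = 12 * k := ht
    have := hA (H.in_mul (d := 8) (by norm_num) (by omega) (show 8 ∣ 2 ∨ _ by norm_num))
    omega
  · subst h
    have ht' : f * 18 = 12 * k := ht
    have := hA (H.in_mul (d := 14) (by norm_num) (by omega) (show 14 ∣ 2 ∨ _ by norm_num))
    omega
  · subst h
    have ht' : f * 30 = 12 * k := ht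
    have := hA (H.in_mul (d := 24) (by norm_num) (by omega) (show 24 ∣ 2 ∨ _ by norm_num))
    omega
  · subst h
    have ht' : f * 18 = 12 * k := ht
    have := hA (H.in_mul (d := 10) (by norm_num) (by omega) (show 10 ∣ 2 ∨ _ by norm_num))
    omega
  · subst h
    have ht' : f * 4 = 12 * k := ht
    exact absurd (in_sz rfl H (j := 3 * k) (by omega) (by omega) ⟨1, by omega⟩) hB
  · subst h
    exact absurd hIs.1 (by norm_num)
  · subst h
    have ht' : f * 12 = 12 * k := ht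
    have : f = k := by omega
    rwa [this] at hIs

/-- **`G₂(3^k)`** -/
theorem same_g2 (hk : 2 ≤ k) (hL : H426.LieFam.Fam.Is 3 k L .g2) (hl : IsLieTypeChar 3 S) (he : 2 ∣ Nat.card S)
    (hπ : ∀ r : ℕ, r.Prime → r ∣ Nat.card S → r ∣ Nat.card L) (h1 : Ip S ((3 ^ k) ^ 2 + 3 ^ k + 1))
    (h2 : Ip S ((3 ^ k) ^ 2 - 3 ^ k + 1)) (hc : Nat.Coprime ((3 ^ k) ^ 2 + 3 ^ k + 1) ((3 ^ k) ^ 2 - 3 ^ k + 1)) :
    H426.LieFam.Fam.Is 3 k S .g2 := by
  obtain ⟨fam, f, d, N, hIs, hSh⟩ := H426.LieFam.exists_fam Nat.prime_three hl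
  have hk1 : 1 ≤ k := by omega
  have H := dat_of_is Nat.prime_three hSh.f_pos hIs
  have DL := dat_of_is Nat.prime_three hk1 hL
  have hf := hSh.f_pos
  have hA := fun {e : ℕ} (h : In 3 (Nat.card S) e) => al_g2 hk1 DL hπ h
  have h3f : 3 ∣ 3 ^ f := dvd_pow_self 3 (by omega)
  have i3 : In 3 (Nat.card S) (3 * k) := by
    obtain ⟨w, hw⟩ := exists_prim (q := 3) (e := 3 * k) (by norm_num) (by omega) (by omega)
    exact ⟨w, hw, h1.dvd w hw.prime (prim_three Nat.prime_three hk1 hw)⟩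
  have i6 : In 3 (Nat.card S) (6 * k) := in_of_ip Nat.prime_three h2 (by omega) (by omega)
    fun w hw => prim_six Nat.prime_three hk1 hw
  have ht := top_eq H (N := 6 * k) (by omega) (fun e he => (hA he).1) i6
  rcases (tri_of_ip h1 h2 hc).fam he Nat.prime_three hSh.f_pos hIs with h | ⟨h, h0⟩ | ⟨h, h0⟩ | ⟨h, h0⟩ | ⟨m, h⟩ |
    h | h | h | h | h | h | h | h
  · subst h
    have ht' : f * 2 = 6 * k := ht
    exfalso
    obtain ⟨-, h4, F, _, _, _, hF, ⟨e⟩⟩ := hIs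
    obtain ⟨u, hu, hu2, huq⟩ := exists_odd_prime hk
    obtain ⟨r, hr, hrn⟩ := Nat.exists_prime_and_dvd h2.one_lt.ne'
    have hr2 := (isol_of_ip h2).ne_two hrn
    have := Fact.mk Nat.prime_three
    have hS := Cfsg.Agent.S2475.result (F := F) 3 (by rw [hF]; exact h4 rfl)
    have hQ : Fintype.card F = (3 ^ k) ^ 3 := by
      rw [hF, ← pow_mul]
      congr 1
      omega
    have hodd : Odd (Fintype.card F) := by
      rw [hF]
      exact Odd.pow (by decide)
    have hg2 : Nat.gcd 2 (Fintype.card F - 1) = 2 := by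
      apply Nat.gcd_eq_left
      obtain ⟨j, hj⟩ := hodd
      exact ⟨j, by omega⟩
    have hg : (Fintype.card F + 1) / 2 ∈
        Set.range (orderOf : Matrix.ProjectiveSpecialLinearGroup (Fin 2) F → ℕ) := by
      rw [hS, hg2]
      exact Or.inr (Or.inr dvd_rfl)
    obtain ⟨g, hg⟩ := hg
    have hfac : Fintype.card F + 1 = (3 ^ k + 1) * ((3 ^ k) ^ 2 - 3 ^ k + 1) := by
      rw [hQ, cube_add (Nat.one_le_pow _ _ (by norm_num))]
    have hhalf : ∀ w : ℕ, w.Prime → w ≠ 2 → w ∣ Fintype.card F + 1 → w ∣ (Fintype.card F + 1) / 2 := by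
      intro w hw hw2 hd
      obtain ⟨j, hj⟩ := hodd
      have e1 : Fintype.card F + 1 = 2 * ((Fintype.card F + 1) / 2) := by omega
      rw [e1] at hd
      exact (hw.dvd_mul.1 hd).resolve_left fun h => hw2 ((Nat.prime_dvd_prime_iff_eq hw Nat.prime_two).1 h)
    have key : Conn (Matrix.ProjectiveSpecialLinearGroup (Fin 2) F) r u :=
      conn_of_dvd_orderOf (g := g) hr hu (hg ▸ hhalf r hr hr2 (hfac ▸ hrn.mul_left _))
        (hg ▸ hhalf u hu hu2 (hfac ▸ huq.mul_right _))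
    have hun := (isol_of_ip (h2.congr e)).conn hrn key
    exact not_both_three hu huq hun
  · rcases h0 with h0 | h0 <;> rw [h0] at h3f <;> omega
  · subst h
    have ht' : f * 6 = 6 * k := ht
    have : f = 1 := by
      by_contra hne
      have : 3 ^ 2 ≤ 3 ^ f := Nat.pow_le_pow_right (by norm_num) (by omega)
      omega
    omega
  · rw [h0] at h3f
    omega
  · subst h
    obtain ⟨e, he, he1, he2⟩ := second_ominus H (N := 6 * k) (by omega) ht
    have := hA he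
    omega
  · subst h
    have ht' : f * 6 = 6 * k := ht
    have : f = k := by omega
    rwa [this] at hIs
  · subst h
    have ht' : f * 12 = 6 * k := ht
    have := hA (H.in_mul (d := 8) (by norm_num) (by omega) (show 8 ∣ 2 ∨ _ by norm_num))
    omega
  · subst h
    have ht' : f * 18 = 6 * k := ht
    have := hA (H.in_mul (d := 14) (by norm_num) (by omega) (show 14 ∣ 2 ∨ _ by norm_num))
    omega
  · subst h
    have ht' : f * 30 = 6 * k := ht
    have := hA (H.in_mul (d := 24) (by norm_num) (by omega) (show 24 ∣ 2 ∨ _ by norm_num))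
    omega
  · subst h
    have ht' : f * 18 = 6 * k := ht
    have := hA (H.in_mul (d := 10) (by norm_num) (by omega) (show 10 ∣ 2 ∨ _ by norm_num))
    omega
  · subst h
    exact absurd hIs.1 (by norm_num)
  · subst h
    have ht' : f * 6 = 6 * k := ht
    have := K_ree (cls_of (a := 3) (b := 1) (d := 3) hk1 H (by omega) (by norm_num) (by norm_num) i3)
    omega
  · subst h
    exact absurd hIs.1 (by norm_num)

end Cfsg.Agent.H200.PG
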